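import Groth.Agent.H86.Van.Free
import Mathlib.GroupTheory.Archimedean

/-!
# Vanishing of cohomology from vanishing on the sheaves `ℤ_V`
-/

set_option autoImplicit false
universe u

namespace Groth.Agent.H86.Van

open CategoryTheory Abelian Limits TopologicalSpace Opposite

section ulift

lemma int_distrib (A B C : AddSubgroup ℤ) : A ⊓ (B ⊔ C) = (A ⊓ B) ⊔ (A ⊓ C) := by
  apply le_antisymm _ le_inf_sup
  obtain ⟨a, rfl⟩ := Int.subgroup_cyclic A
  obtain ⟨b, rfl⟩ := Int.subgroup_cyclic B
  obtain ⟨c, rfl⟩ := Int.subgroup_cyclic C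
  simp only [← AddSubgroup.zmultiples_eq_closure]
  intro x hx
  have hxA : x ∈ AddSubgroup.zmultiples a := hx.1
  have hxBC : x ∈ AddSubgroup.zmultiples b ⊔ AddSubgroup.zmultiples c := hx.2
  clear hx
  obtain ⟨y, hy, z, hz, rfl⟩ := AddSubgroup.mem_sup.1 hxBC
  rw [Int.mem_zmultiples_iff] at hxA hy hz
  obtain ⟨g, u, v, hgb, hgc, hg⟩ : ∃ g u v : ℤ, g ∣ b ∧ g ∣ c ∧ g = b * u + c * v :=
    ⟨Int.gcd b c, Int.gcdA b c, Int.gcdB b c, Int.gcd_dvd_left b c, Int.gcd_dvd_right b c,
      Int.gcd_eq_gcd_ab b c⟩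
  have hgx : g ∣ y + z := dvd_add (hgb.trans hy) (hgc.trans hz)
  by_cases hg0 : g = 0
  · have hb0 : b = 0 := by
      rw [hg0] at hgb
      exact zero_dvd_iff.1 hgb
    have hc0 : c = 0 := by
      rw [hg0] at hgc
      exact zero_dvd_iff.1 hgc
    rw [hb0] at hy
    rw [hc0] at hz
    rw [zero_dvd_iff.1 hy, zero_dvd_iff.1 hz, add_zero]
    exact zero_mem _
  obtain ⟨b', hb'⟩ := hgb
  obtain ⟨c', hc'⟩ := hgc
  obtain ⟨k, hk⟩ := hgx
  have h1 : b' * u + c' * v = 1 := by
    apply mul_left_cancel₀ hg0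
    rw [mul_one]
    conv_rhs => rw [hg, hb', hc']
    ring
  have hx : y + z = (y + z) * (b' * u) + (y + z) * (c' * v) := by
    rw [← mul_add, h1, mul_one]
  rw [hx]
  refine AddSubgroup.add_mem_sup (AddSubgroup.mem_inf.2 ⟨?_, ?_⟩) (AddSubgroup.mem_inf.2 ⟨?_, ?_⟩)
  · rw [Int.mem_zmultiples_iff]
    exact Dvd.dvd.mul_right hxA _
  · rw [Int.mem_zmultiples_iff]
    refine ⟨k * u, ?_⟩
    rw [hk, hb']
    ring
  · rw [Int.mem_zmultiples_iff]
    exact Dvd.dvd.mul_right hxA _
  · rw [Int.mem_zmultiples_iff]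
    refine ⟨k * v, ?_⟩
    rw [hk, hc']
    ring

lemma ulift_distrib (A B C : AddSubgroup (ULift.{u} ℤ)) : A ⊓ (B ⊔ C) = (A ⊓ B) ⊔ (A ⊓ C) := by
  let e : AddSubgroup (ULift.{u} ℤ) ≃o AddSubgroup ℤ :=
    (AddEquiv.ulift.symm : ℤ ≃+ ULift.{u} ℤ).comapAddSubgroup
  apply e.injective
  rw [map_inf, map_sup, map_sup, map_inf, map_inf]
  exact int_distrib _ _ _

lemma ulift_subgroup_cyclic (A : AddSubgroup (ULift.{u} ℤ)) :
    ∃ m : ULift.{u} ℤ, A = AddSubgroup.zmultiples m := by
  obtain ⟨a, ha⟩ := Int.subgroup_cyclic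
    (A.comap (AddEquiv.ulift.symm : ℤ ≃+ ULift.{u} ℤ).toAddMonoidHom)
  refine ⟨⟨a⟩, ?_⟩
  ext x
  have h1 : x ∈ A ↔ x.down ∈ A.comap (AddEquiv.ulift.symm : ℤ ≃+ ULift.{u} ℤ).toAddMonoidHom :=
    Iff.rfl
  rw [h1, ha, AddSubgroup.mem_closure_singleton, AddSubgroup.mem_zmultiples_iff]
  constructor
  · rintro ⟨n, hn⟩
    exact ⟨n, ULift.ext _ _ hn⟩
  · rintro ⟨n, hn⟩
    exact ⟨n, congrArg ULift.down hn⟩

lemma ulift_zsmul_eq_zero (m : ULift.{u} ℤ) (hm : m ≠ 0) (n : ℤ) (h : n • m = 0) : n = 0 := by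
  have h1 : n * m.down = 0 := by
    have := congrArg ULift.down h
    simpa using this
  rcases mul_eq_zero.1 h1 with h2 | h2
  · exact h2
  · exact absurd (ULift.ext _ _ h2) hm

end ulift

section main

variable {X : TopCat.{u}} [PrespectralSpace X] [QuasiSeparatedSpace X]
  (U : Opens X) (hU : IsCompact (U : Set X)) {d : ℕ}
  (h : ∀ V : Opens X, IsCompact (V : Set X) →
    PVan (CohCx.freeSheaf (Opens.grothendieckTopology X) U) d (freePre V))
include hU h

lemma pvan_elem (V : Opens X) (hV : IsCompact (V : Set X)) (A : AddSubgroup (ULift.{u} ℤ)) :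
    PVan (CohCx.freeSheaf (Opens.grothendieckTopology X) U) d (elem V A).toPre := by
  obtain ⟨m, rfl⟩ := ulift_subgroup_cyclic A
  by_cases hm : m = 0
  · subst hm
    apply pvan_of_subsingleton
    intro W
    change Subsingleton ((elem V (AddSubgroup.zmultiples (0 : ULift.{u} ℤ))).carrier W)
    have : (elem V (AddSubgroup.zmultiples (0 : ULift.{u} ℤ))).carrier W = ⊥ := by
      rw [AddSubgroup.zmultiples_zero_eq_bot]
      by_cases hW : W.unop ≤ V
      · rw [elem_carrier_of_le _ hW]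
      · rw [elem_carrier_of_not_le _ hW]
    rw [this]
    infer_instance
  · rw [← range_cstMap]
    exact (SubPre.pvan_range_iff (cstMap V m)
      (cstMap_injective V m (ulift_zsmul_eq_zero m hm))).1 (h V hV)

/-- a presheaf mapping injectively to the constant presheaf `ℤ` is in the vanishing class -/
theorem pvan_of_injective_to_const (P : Pre X) (j : P ⟶ constPre X (ULift.{u} ℤ))
    (hj : ∀ W, Function.Injective (j.app W)) :
    PVan (CohCx.freeSheaf (Opens.grothendieckTopology X) U) d P :=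
  (SubPre.pvan_range_iff j hj).2
    (pvan_subPre_const U hU ulift_distrib (pvan_elem U hU h) (SubPre.range j))

/-- the index type of sections over compact opens -/
def SecIdx (F : Pre X) : Type u := Σ V : {V : Opens X // IsCompact (V : Set X)}, F.obj (op V.1)

/-- the sub-presheaf generated by finitely many sections over compact opens -/
def fgSub (F : Pre X) (A : Finset (SecIdx F)) : SubPre F :=
  A.sup (fun a => SubPre.range (secMap F a.1.1 a.2))

theorem pvan_fgSub (F : Pre X) (A : Finset (SecIdx F)) :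
    PVan (CohCx.freeSheaf (Opens.grothendieckTopology X) U) d (fgSub F A).toPre := by
  classical
  induction A using Finset.induction_on with
  | empty =>
    apply pvan_of_subsingleton
    intro W
    change Subsingleton ((fgSub F ∅).carrier W)
    have : (fgSub F ∅).carrier W = ⊥ := by
      unfold fgSub
      rw [SubPre.finset_sup_carrier]
      simp
    rw [this]
    infer_instance
  | insert a A _ ih =>
    have h1 : fgSub F (insert a A) = fgSub F A ⊔ SubPre.range (secMap F a.1.1 a.2) := by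
      unfold fgSub
      rw [Finset.sup_insert, sup_comm]
    rw [h1]
    refine SubPre.pvan_sup_range _ _ (h a.1.1 a.1.2) ih ?_
    refine pvan_of_injective_to_const U hU h _
      ((SubPre.comap (secMap F a.1.1 a.2) (fgSub F A)).ι ≫ cstMap a.1.1 (⟨1⟩ : ULift.{u} ℤ)) ?_
    have hne : (⟨1⟩ : ULift.{u} ℤ) ≠ 0 := by
      intro h0
      have := congrArg ULift.down h0
      simp at this
    intro W x y hxy
    apply SubPre.ι_injective _ W
    exact cstMap_injective a.1.1 (⟨1⟩ : ULift.{u} ℤ) (ulift_zsmul_eq_zero _ hne) W hxy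

/-- the diagram of finitely generated sub-presheaves of a presheaf -/
def fgDiagram (F : Pre X) : Finset (SecIdx F) ⥤ Pre X :=
  (Monotone.functor (f := fgSub F) (fun _ _ hAB => Finset.sup_mono hAB)) ⋙ SubPre.functor F

/-- the cocone of finitely generated sub-presheaves of a presheaf -/
def fgCocone (F : Pre X) : Cocone (fgDiagram F) where
  pt := F
  ι :=
    { app := fun A => (fgSub F A).ι
      naturality := fun _ _ _ => by
        ext W s
        rfl }

/-- every abelian presheaf is in the vanishing class -/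
theorem pvan_all (F : Pre X) :
    PVan (CohCx.freeSheaf (Opens.grothendieckTopology X) U) d F := by
  classical
  refine pvan_of_directed U hU d (fgDiagram F) (fgCocone F) ?_ ?_ ?_
  · intro A W
    exact SubPre.ι_injective _ W
  · intro W s x hx
    obtain ⟨v, ⟨hvo, hvc⟩, hxv, hvW⟩ :=
      (PrespectralSpace.isTopologicalBasis (X := X)).exists_subset_of_mem_open hx W.2
    let W' : Opens X := ⟨v, hvo⟩
    have hW' : W' ≤ W := hvW
    let a : SecIdx F := ⟨⟨W', hvc⟩, (F.map (homOfLE hW').op).hom s⟩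
    have hmem : (F.map (homOfLE hW').op).hom s ∈ (fgSub F {a}).carrier (op W') := by
      unfold fgSub
      rw [Finset.sup_singleton]
      refine ⟨(FreeAbelianGroup.of (𝟙 W') : FreeAbelianGroup ((op W').unop ⟶ W')), ?_⟩
      have := secMap_of F W' ((F.map (homOfLE hW').op).hom s) (op W') (𝟙 W')
      refine this.trans ?_
      rw [op_id, F.map_id]
      rfl
    exact ⟨W', hW', {a}, ⟨_, hmem⟩, hxv, rfl⟩
  · intro A
    exact pvan_fgSub U hU h F A

end main

end Groth.Agent.H86.Van
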