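import Mathlib.Algebra.Homology.DerivedCategory.Ext.ExactSequences

/-!
# Vanishing of `Ext` above a given degree: closure properties

For a fixed object `T` of an abelian category, the class of objects `F` such that
`Ext^p(T, F) = 0` for all `p > d` is closed under isomorphisms, extensions and cokernels of
monomorphisms.
-/

set_option autoImplicit false
universe w v u

namespace Groth.Agent.H86.Van

open CategoryTheory Abelian Limits

variable {A : Type u} [Category.{v} A] [Abelian A] [HasExt.{w} A]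

/-- `Ext^p(T, F) = 0` for all `p > d`. -/
def VanAbove (T : A) (d : ℕ) (F : A) : Prop :=
  ∀ p : ℕ, d < p → ∀ x : Ext.{w} T F p, x = 0

variable {T : A} {d : ℕ}

lemma vanAbove_of_iso {F G : A} (e : F ≅ G) (h : VanAbove T d F) : VanAbove T d G := by
  intro p hp x
  have h1 : (x.comp (Ext.mk₀ e.inv) (add_zero p)).comp (Ext.mk₀ e.hom) (add_zero p) = x := by
    rw [Ext.comp_assoc_of_third_deg_zero, Ext.mk₀_comp_mk₀, e.inv_hom_id, Ext.comp_mk₀_id]
  rw [← h1, h p hp (x.comp (Ext.mk₀ e.inv) (add_zero p)), Ext.zero_comp]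

lemma vanAbove_of_isZero {F : A} (hF : IsZero F) : VanAbove T d F := by
  intro p _ x
  have h1 : x.comp (Ext.mk₀ (𝟙 F)) (add_zero p) = x := Ext.comp_mk₀_id x
  rw [← h1, hF.eq_of_src (𝟙 F) 0, Ext.mk₀_zero, Ext.comp_zero]

lemma vanAbove_X₃ {S : ShortComplex A} (hS : S.ShortExact)
    (h₁ : VanAbove T d S.X₁) (h₂ : VanAbove T d S.X₂) : VanAbove T d S.X₃ := by
  intro p hp x
  obtain ⟨x₂, rfl⟩ := Ext.covariant_sequence_exact₃ T hS x (n₁ := p + 1) rfl
    (h₁ (p + 1) (by omega) _)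
  rw [h₂ p hp x₂, Ext.zero_comp]

lemma vanAbove_X₂ {S : ShortComplex A} (hS : S.ShortExact)
    (h₁ : VanAbove T d S.X₁) (h₃ : VanAbove T d S.X₃) : VanAbove T d S.X₂ := by
  intro p hp x
  obtain ⟨x₁, rfl⟩ := Ext.covariant_sequence_exact₂ T hS x (h₃ p hp _)
  rw [h₁ p hp x₁, Ext.zero_comp]

/-- Transport along an isomorphism of the test object. -/
lemma vanAbove_of_iso_left {T' : A} (e : T ≅ T') {F : A} (h : VanAbove T d F) :
    VanAbove T' d F := by
  intro p hp x
  have h1 : (Ext.mk₀ e.inv).comp ((Ext.mk₀ e.hom).comp x (zero_add p)) (zero_add p) = x := by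
    rw [← Ext.comp_assoc_of_second_deg_zero, Ext.mk₀_comp_mk₀, e.inv_hom_id, Ext.mk₀_id_comp]
  rw [← h1, h p hp ((Ext.mk₀ e.hom).comp x (zero_add p)), Ext.comp_zero]

end Groth.Agent.H86.Van
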