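import Groth.Agent.H86.Van.Pre
import Groth.Agent.S0468

/-!
# Directed unions of presheaves and vanishing of cohomology
-/

set_option autoImplicit false
universe u

namespace Groth.Agent.H86.Van

open CategoryTheory Abelian Limits TopologicalSpace Opposite

variable {X : TopCat.{u}}

section

variable {ι : Type u} [Preorder ι] [IsDirected ι (· ≤ ·)] [Nonempty ι]

/-- every element of the colimit of presheaves is represented at some stage -/
lemma colimit_pre_exists_rep (D : ι ⥤ Pre X) (W : (Opens X)ᵒᵖ) (z : (colimit D).obj W) :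
    ∃ (i : ι) (t : (D.obj i).obj W), (colimit.ι D i).app W t = z := by
  have h := isColimitOfPreserves ((evaluation (Opens X)ᵒᵖ AddCommGrpCat.{u}).obj W)
    (colimit.isColimit D)
  obtain ⟨i, t, ht⟩ := Concrete.isColimit_exists_rep _ h z
  exact ⟨i, t, ht⟩

variable [PrespectralSpace X] [QuasiSeparatedSpace X]

/-- a colimit of zero groups is zero: the colimit lemma for `Ext` out of `ℤ_U`, `U` compact open -/
lemma vanAbove_colimit (U : Opens X) (hU : IsCompact (U : Set X)) (d : ℕ)
    (D : ι ⥤ CohTop.Ab X) (c : Cocone D) (hc : IsColimit c)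
    (hD : ∀ i, VanAbove (CohCx.freeSheaf (Opens.grothendieckTopology X) U) d (D.obj i)) :
    VanAbove (CohCx.freeSheaf (Opens.grothendieckTopology X) U) d c.pt := by
  intro p hp x
  have hpres := Groth.Agent.S0468.result U hU ι p
  let Φ : CohTop.Ab X ⥤ AddCommGrpCat.{u} :=
    (Sheaf.cohomologyPresheafFunctor (Opens.grothendieckTopology X) p).flip.obj (op U)
  have h := isColimitOfPreserves Φ hc
  obtain ⟨i, t, ht⟩ := Concrete.isColimit_exists_rep _ h (x : Φ.obj c.pt)
  have ht0 : t = 0 := hD i p hp t
  rw [← ht, ht0]
  exact map_zero _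

/-- directed unions: if a presheaf is locally generated by a directed family of presheaves
mapping injectively to it, each of which is in the vanishing class, then so is the presheaf -/
theorem pvan_of_directed (U : Opens X) (hU : IsCompact (U : Set X)) (d : ℕ)
    (D : ι ⥤ Pre X) (c : Cocone D)
    (hinj : ∀ i W, Function.Injective ((c.ι.app i).app W))
    (hgen : ∀ (W : Opens X) (s : c.pt.obj (op W)) (x : X), x ∈ W →
      ∃ (W' : Opens X) (hW' : W' ≤ W) (i : ι) (t : (D.obj i).obj (op W')), x ∈ W' ∧
        (c.ι.app i).app (op W') t = c.pt.map (homOfLE hW').op s)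
    (hD : ∀ i, PVan (CohCx.freeSheaf (Opens.grothendieckTopology X) U) d (D.obj i)) :
    PVan (CohCx.freeSheaf (Opens.grothendieckTopology X) U) d c.pt := by
  let δ : colimit D ⟶ c.pt := colimit.desc D c
  have hδ : ∀ i W (t : (D.obj i).obj W),
      δ.app W ((colimit.ι D i).app W t) = (c.ι.app i).app W t := by
    intro i W t
    have : colimit.ι D i ≫ δ = c.ι.app i := colimit.ι_desc c i
    rw [← this]
    rfl
  have h1 : Presheaf.IsLocallyInjective (Opens.grothendieckTopology X) δ := by
    apply Presheaf.isLocallyInjective_of_injective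
    intro W
    rw [injective_iff_map_eq_zero]
    intro z hz
    obtain ⟨i, t, rfl⟩ := colimit_pre_exists_rep D W z
    rw [hδ] at hz
    have : t = 0 := hinj i W (by rw [hz, map_zero])
    rw [this, map_zero]
  have h2 : Presheaf.IsLocallySurjective (Opens.grothendieckTopology X) δ := by
    constructor
    intro W s x hx
    obtain ⟨W', hW', i, t, hxW', ht⟩ := hgen W s x hx
    refine ⟨W', homOfLE hW', ⟨(colimit.ι D i).app (op W') t, ?_⟩, hxW'⟩
    rw [hδ]
    exact ht
  rw [← pvan_iff_of_locallyBijective δ]
  exact vanAbove_colimit U hU d (D ⋙ shf X) ((shf X).mapCocone (colimit.cocone D))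
    (isColimitOfPreserves (shf X) (colimit.isColimit D)) hD

end

end Groth.Agent.H86.Van
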