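import Groth.Agent.H86.Van.SubPre
import Groth.Agent.H86.Van.Colim

/-!
# Sub-presheaves of a constant presheaf
-/

set_option autoImplicit false
universe u

namespace Groth.Agent.H86.Van

open CategoryTheory Abelian Limits TopologicalSpace Opposite

variable {X : TopCat.{u}}

/-- the constant presheaf with value `M` -/
abbrev constPre (X : TopCat.{u}) (M : Type u) [AddCommGroup M] : Pre X :=
  (Functor.const (Opens X)ᵒᵖ).obj (AddCommGrpCat.of M)

variable {M : Type u} [AddCommGroup M]

/-- the elementary sub-presheaf of the constant presheaf: `A` on opens inside `V`, zero elsewhere -/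
def elem (V : Opens X) (A : AddSubgroup M) : SubPre (constPre X M) where
  carrier W := ⨆ (_ : W.unop ≤ V), A
  map_mem {W W'} f s hs := by
    have h : (⨆ (_ : W.unop ≤ V), A) ≤ ⨆ (_ : W'.unop ≤ V), A :=
      iSup_le fun h => le_iSup_of_le (le_trans f.unop.le h) le_rfl
    exact h hs

lemma elem_carrier_of_le {V : Opens X} (A : AddSubgroup M) {W : (Opens X)ᵒᵖ} (h : W.unop ≤ V) :
    (elem V A).carrier W = A := by
  change (⨆ (_ : W.unop ≤ V), A) = A
  rw [iSup_pos h]

lemma elem_carrier_of_not_le {V : Opens X} (A : AddSubgroup M) {W : (Opens X)ᵒᵖ}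
    (h : ¬ W.unop ≤ V) : (elem V A).carrier W = ⊥ := by
  change (⨆ (_ : W.unop ≤ V), A) = ⊥
  rw [iSup_neg h]

lemma elem_inf (V V' : Opens X) (A A' : AddSubgroup M) :
    elem V A ⊓ elem V' A' = elem (V ⊓ V') (A ⊓ A') := by
  apply SubPre.ext
  intro W
  rw [SubPre.inf_carrier]
  by_cases h : W.unop ≤ V
  · by_cases h' : W.unop ≤ V'
    · rw [elem_carrier_of_le A h, elem_carrier_of_le A' h', elem_carrier_of_le _ (le_inf h h')]
    · rw [elem_carrier_of_not_le A' h', elem_carrier_of_not_le _ (fun hh => h' (hh.trans inf_le_right)),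
        inf_bot_eq]
  · rw [elem_carrier_of_not_le A h, elem_carrier_of_not_le _ (fun hh => h (hh.trans inf_le_left)),
      bot_inf_eq]

/-- finitely generated sub-presheaves of the constant presheaf -/
def gT (T : Finset (Opens X × AddSubgroup M)) : SubPre (constPre X M) :=
  T.sup (fun t => elem t.1 t.2)

lemma gT_mono {T T' : Finset (Opens X × AddSubgroup M)} (h : T ⊆ T') : gT T ≤ gT T' :=
  Finset.sup_mono h

section distrib

variable (hdist : ∀ A B C : AddSubgroup M, A ⊓ (B ⊔ C) = (A ⊓ B) ⊔ (A ⊓ C))
include hdist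

lemma inf_finset_sup {α : Type*} (A : AddSubgroup M) (T : Finset α) (f : α → AddSubgroup M) :
    A ⊓ T.sup f = T.sup (fun t => A ⊓ f t) := by
  classical
  induction T using Finset.induction_on with
  | empty => simp
  | insert a T _ ih => rw [Finset.sup_insert, Finset.sup_insert, hdist, ih]

lemma elem_inf_gT (V : Opens X) (A : AddSubgroup M) (T : Finset (Opens X × AddSubgroup M))
    [DecidableEq (Opens X × AddSubgroup M)] :
    elem V A ⊓ gT T = gT (T.image fun t => (V ⊓ t.1, A ⊓ t.2)) := by
  apply SubPre.ext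
  intro W
  rw [SubPre.inf_carrier]
  unfold gT
  rw [SubPre.finset_sup_carrier, SubPre.finset_sup_carrier, Finset.sup_image,
    inf_finset_sup hdist]
  apply Finset.sup_congr rfl
  intro t _
  have := congrArg (fun G : SubPre (constPre X M) => G.carrier W) (elem_inf V t.1 A t.2)
  exact this

end distrib

section main

variable [QuasiSeparatedSpace X] {Z : CohTop.Ab X} {d : ℕ}
  (hdist : ∀ A B C : AddSubgroup M, A ⊓ (B ⊔ C) = (A ⊓ B) ⊔ (A ⊓ C))
  (hE : ∀ (V : Opens X), IsCompact (V : Set X) → ∀ A : AddSubgroup M, PVan Z d (elem V A).toPre)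
include hdist hE

/-- finitely generated sub-presheaves of the constant presheaf are in the vanishing class -/
theorem pvan_gT : ∀ (n : ℕ) (T : Finset (Opens X × AddSubgroup M)),
    (∀ t ∈ T, IsCompact (t.1 : Set X)) → T.card ≤ n → PVan Z d (gT T).toPre := by
  classical
  intro n
  induction n with
  | zero =>
    intro T _ hcard
    have hT : T = ∅ := Finset.card_eq_zero.1 (Nat.le_zero.1 hcard)
    subst hT
    apply pvan_of_subsingleton
    intro W
    change Subsingleton ((gT (∅ : Finset (Opens X × AddSubgroup M))).carrier W)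
    have : (gT (∅ : Finset (Opens X × AddSubgroup M))).carrier W = ⊥ := by
      unfold gT
      rw [SubPre.finset_sup_carrier]
      simp
    rw [this]
    infer_instance
  | succ n ih =>
    intro T hT hcard
    by_cases hne : T = ∅
    · exact ih T hT (by rw [hne]; simp)
    obtain ⟨t, ht⟩ := Finset.nonempty_iff_ne_empty.2 hne
    have hcard' : (T.erase t).card ≤ n := by
      rw [Finset.card_erase_of_mem ht]
      omega
    have hT' : ∀ t' ∈ T.erase t, IsCompact (t'.1 : Set X) :=
      fun t' ht' => hT t' (Finset.mem_of_mem_erase ht')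
    have h1 : gT T = gT (T.erase t) ⊔ SubPre.range (elem t.1 t.2).ι := by
      rw [SubPre.range_ι, sup_comm]
      unfold gT
      conv_lhs => rw [← Finset.insert_erase ht, Finset.sup_insert]
    rw [h1]
    refine SubPre.pvan_sup_range _ _ (hE t.1 (hT t ht) t.2) (ih _ hT' hcard') ?_
    rw [SubPre.pvan_comap_ι_iff, elem_inf_gT hdist]
    refine ih _ ?_ (Finset.card_image_le.trans hcard')
    intro t' ht'
    obtain ⟨t'', ht'', rfl⟩ := Finset.mem_image.1 ht'
    exact QuasiSeparatedSpace.inter_isCompact _ _ t.1.2 (hT t ht) t''.1.2 (hT' t'' ht'')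

end main

section all

/-- the index type of finite sets of generators of a sub-presheaf of the constant presheaf -/
def GenIdx (G : SubPre (constPre X M)) : Type u :=
  {T : Finset (Opens X × AddSubgroup M) // ∀ t ∈ T, IsCompact (t.1 : Set X) ∧ elem t.1 t.2 ≤ G}

instance (G : SubPre (constPre X M)) : Preorder (GenIdx G) := Subtype.preorder _

instance (G : SubPre (constPre X M)) : Nonempty (GenIdx G) := ⟨⟨∅, by simp⟩⟩

instance (G : SubPre (constPre X M)) : IsDirected (GenIdx G) (· ≤ ·) := by
  classical
  refine ⟨fun a b => ⟨⟨a.1 ∪ b.1, ?_⟩, ?_, ?_⟩⟩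
  · intro t ht
    rcases Finset.mem_union.1 ht with h | h
    · exact a.2 t h
    · exact b.2 t h
  · exact Finset.subset_union_left
  · exact Finset.subset_union_right

lemma gT_le (G : SubPre (constPre X M)) (T : GenIdx G) : gT T.1 ≤ G :=
  Finset.sup_le fun t ht => (T.2 t ht).2

/-- the diagram of finitely generated sub-presheaves -/
def genDiagram (G : SubPre (constPre X M)) : GenIdx G ⥤ Pre X :=
  (Monotone.functor (f := fun T : GenIdx G => gT T.1) (fun _ _ h => gT_mono h)) ⋙
    SubPre.functor _

/-- the cocone of finitely generated sub-presheaves -/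
def genCocone (G : SubPre (constPre X M)) : Cocone (genDiagram G) where
  pt := G.toPre
  ι :=
    { app := fun T => SubPre.homOfLE (gT_le G T)
      naturality := fun _ _ _ => by
        ext W s
        rfl }

variable [PrespectralSpace X] [QuasiSeparatedSpace X] (U : Opens X) (hU : IsCompact (U : Set X))
  {d : ℕ}
  (hdist : ∀ A B C : AddSubgroup M, A ⊓ (B ⊔ C) = (A ⊓ B) ⊔ (A ⊓ C))
  (hE : ∀ (V : Opens X), IsCompact (V : Set X) → ∀ A : AddSubgroup M,
    PVan (CohCx.freeSheaf (Opens.grothendieckTopology X) U) d (elem V A).toPre)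
include hU hdist hE

/-- all sub-presheaves of the constant presheaf are in the vanishing class -/
theorem pvan_subPre_const (G : SubPre (constPre X M)) :
    PVan (CohCx.freeSheaf (Opens.grothendieckTopology X) U) d G.toPre := by
  refine pvan_of_directed U hU d (genDiagram G) (genCocone G) ?_ ?_ ?_
  · intro T W
    exact SubPre.homOfLE_injective _ W
  · intro W s x hx
    obtain ⟨v, ⟨hvo, hvc⟩, hxv, hvW⟩ :=
      (PrespectralSpace.isTopologicalBasis (X := X)).exists_subset_of_mem_open hx W.2
    let W' : Opens X := ⟨v, hvo⟩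
    have hW' : W' ≤ W := hvW
    have hs' : s.1 ∈ G.carrier (op W') := G.map_mem (homOfLE hW').op s.1 s.2
    have hle : elem W' (G.carrier (op W')) ≤ G := by
      intro W'' m hm
      by_cases h : W''.unop ≤ W'
      · rw [elem_carrier_of_le _ h] at hm
        exact G.map_mem (homOfLE h).op m hm
      · rw [elem_carrier_of_not_le _ h] at hm
        rw [(AddSubgroup.mem_bot).1 hm]
        exact zero_mem _
    let T : GenIdx G := ⟨{(W', G.carrier (op W'))}, by
      intro t ht
      rw [Finset.mem_singleton] at ht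
      subst ht
      exact ⟨hvc, hle⟩⟩
    have hmem : s.1 ∈ (gT T.1).carrier (op W') := by
      change s.1 ∈ (gT {(W', G.carrier (op W'))}).carrier (op W')
      unfold gT
      rw [Finset.sup_singleton, elem_carrier_of_le _ (le_refl W')]
      exact hs'
    exact ⟨W', hW', T, ⟨s.1, hmem⟩, hxv, rfl⟩
  · intro T
    exact pvan_gT hdist hE _ T.1 (fun t ht => (T.2 t ht).1) le_rfl

end all

end Groth.Agent.H86.Van
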