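import Groth.Agent.H86.Van.Const

/-!
# The free abelian presheaf on a representable presheaf and sections
-/

set_option autoImplicit false
universe u

namespace Groth.Agent.H86.Van

open CategoryTheory Abelian Limits TopologicalSpace Opposite

variable {X : TopCat.{u}}

/-- the free abelian presheaf on the representable presheaf of `V` -/
abbrev freePre (V : Opens X) : Pre X := yoneda.obj V ⋙ AddCommGrpCat.free.{u}

/-- the morphism `ℤ[h_V] ⟶ F` given by a section of `F` over `V` -/
def secMap (F : Pre X) (V : Opens X) (s : F.obj (op V)) : freePre V ⟶ F where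
  app W := AddCommGrpCat.ofHom
    (FreeAbelianGroup.lift (fun h : W.unop ⟶ V => (F.map h.op).hom s))
  naturality W W' f := by
    apply AddCommGrpCat.hom_ext
    apply FreeAbelianGroup.lift_ext
    intro h
    change FreeAbelianGroup.lift (fun h : W'.unop ⟶ V => (F.map h.op).hom s)
        (FreeAbelianGroup.map (fun g => f.unop ≫ g) (FreeAbelianGroup.of h)) =
      (F.map f).hom (FreeAbelianGroup.lift (fun h : W.unop ⟶ V => (F.map h.op).hom s)
        (FreeAbelianGroup.of h))
    rw [FreeAbelianGroup.map_of_apply, FreeAbelianGroup.lift_apply_of,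
      FreeAbelianGroup.lift_apply_of]
    have : (f.unop ≫ h).op = h.op ≫ f := rfl
    rw [this, F.map_comp]
    rfl

lemma secMap_of (F : Pre X) (V : Opens X) (s : F.obj (op V)) (W : (Opens X)ᵒᵖ)
    (h : W.unop ⟶ V) :
    (secMap F V s).app W (FreeAbelianGroup.of h : FreeAbelianGroup (W.unop ⟶ V)) =
      (F.map h.op).hom s :=
  FreeAbelianGroup.lift_apply_of _ _

/-- elements of the free abelian group on a subsingleton type -/
lemma freeAbelianGroup_subsingleton_cases {T : Type*} [Subsingleton T] (x : FreeAbelianGroup T) :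
    x = 0 ∨ ∃ (t : T) (n : ℤ), x = n • FreeAbelianGroup.of t := by
  induction x using FreeAbelianGroup.induction_on with
  | zero => exact Or.inl rfl
  | of t => exact Or.inr ⟨t, 1, (one_smul _ _).symm⟩
  | neg t => exact Or.inr ⟨t, -1, by simp⟩
  | add x y hx hy =>
    rcases hx with rfl | ⟨t, n, rfl⟩
    · rw [zero_add]
      exact hy
    · rcases hy with rfl | ⟨t', n', rfl⟩
      · rw [add_zero]
        exact Or.inr ⟨t, n, rfl⟩
      · rw [Subsingleton.elim t' t, ← add_smul]
        exact Or.inr ⟨t, n + n', rfl⟩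

section cst

variable {M : Type u} [AddCommGroup M]

lemma lift_const_injective {T : Type*} [Subsingleton T] (m : M)
    (hm : ∀ n : ℤ, n • m = 0 → n = 0) :
    Function.Injective (FreeAbelianGroup.lift (fun _ : T => m)) := by
  rw [injective_iff_map_eq_zero]
  intro x hx
  rcases freeAbelianGroup_subsingleton_cases x with rfl | ⟨t, n, rfl⟩
  · rfl
  · rw [map_zsmul, FreeAbelianGroup.lift_apply_of] at hx
    rw [hm n hx, zero_smul]

lemma lift_const_mem_range {T : Type*} [Subsingleton T] (m : M) (x : M) :
    x ∈ (FreeAbelianGroup.lift (fun _ : T => m)).range ↔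
      (Nonempty T ∧ x ∈ AddSubgroup.zmultiples m) ∨ x = 0 := by
  constructor
  · rintro ⟨y, rfl⟩
    rcases freeAbelianGroup_subsingleton_cases y with rfl | ⟨t, n, rfl⟩
    · exact Or.inr (map_zero _)
    · refine Or.inl ⟨⟨t⟩, ?_⟩
      rw [map_zsmul, FreeAbelianGroup.lift_apply_of]
      exact AddSubgroup.zsmul_mem_zmultiples m n
  · rintro (⟨⟨t⟩, hx⟩ | rfl)
    · rw [AddSubgroup.mem_zmultiples_iff] at hx
      obtain ⟨n, rfl⟩ := hx
      refine ⟨n • FreeAbelianGroup.of t, ?_⟩
      rw [map_zsmul, FreeAbelianGroup.lift_apply_of]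
    · exact zero_mem _

/-- the map `ℤ[h_V] ⟶ M` sending every generator to `m` -/
def cstMap (V : Opens X) (m : M) : freePre V ⟶ constPre X M :=
  secMap (constPre X M) V m

lemma cstMap_app_hom (V : Opens X) (m : M) (W : (Opens X)ᵒᵖ) :
    ((cstMap V m).app W).hom = FreeAbelianGroup.lift (fun _ : W.unop ⟶ V => m) := rfl

lemma cstMap_injective (V : Opens X) (m : M) (hm : ∀ n : ℤ, n • m = 0 → n = 0) (W) :
    Function.Injective ((cstMap V m).app W) :=
  lift_const_injective (T := W.unop ⟶ V) m hm

lemma range_cstMap (V : Opens X) (m : M) :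
    SubPre.range (cstMap V m) = elem V (AddSubgroup.zmultiples m) := by
  apply SubPre.ext
  intro W
  ext x
  change x ∈ (FreeAbelianGroup.lift (fun _ : W.unop ⟶ V => m)).range ↔ _
  rw [lift_const_mem_range]
  by_cases h : W.unop ≤ V
  · rw [elem_carrier_of_le _ h]
    constructor
    · rintro (⟨_, hx⟩ | rfl)
      · exact hx
      · exact zero_mem _
    · intro hx
      exact Or.inl ⟨⟨homOfLE h⟩, hx⟩
  · rw [elem_carrier_of_not_le _ h, AddSubgroup.mem_bot]
    constructor
    · rintro (⟨⟨t⟩, _⟩ | rfl)
      · exact absurd t.le h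
      · rfl
    · intro hx
      exact Or.inr hx

end cst

end Groth.Agent.H86.Van
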