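import Groth.Agent.H86.Van.Basic
import Groth.Prelude.Def_CohTop
import Groth.Prelude.Def_CohCx
import Mathlib.CategoryTheory.Sites.LocallyBijective
import Mathlib.Algebra.Homology.ShortComplex.ExactFunctor
import Mathlib.Algebra.Homology.ShortComplex.Ab

/-!
# Presheaf-level dévissage: exact sequences of presheaves and sheafification
-/

set_option autoImplicit false
universe u

namespace Groth.Agent.H86.Van

open CategoryTheory Abelian Limits TopologicalSpace Opposite

section functorCat

variable {C : Type*} [Category C] {D : Type*} [Category D] [Abelian D]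

lemma exact_of_evaluation (S : ShortComplex (C ⥤ D))
    (h : ∀ X : C, (S.map ((evaluation C D).obj X)).Exact) : S.Exact := by
  rw [S.exact_iff_isZero_homology]
  apply Functor.isZero
  intro X
  exact IsZero.of_iso (((S.map ((evaluation C D).obj X)).exact_iff_isZero_homology).1 (h X))
    (S.mapHomologyIso ((evaluation C D).obj X)).symm

end functorCat

variable {X : TopCat.{u}}

/-- abelian presheaves on `X` -/
abbrev Pre (X : TopCat.{u}) : Type (u + 1) := (Opens X)ᵒᵖ ⥤ AddCommGrpCat.{u}

/-- sheafification of abelian presheaves -/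
noncomputable abbrev shf (X : TopCat.{u}) : Pre X ⥤ CohTop.Ab X :=
  presheafToSheaf (Opens.grothendieckTopology X) AddCommGrpCat.{u}

/-- pointwise short exact sequences of presheaves are short exact -/
lemma shortExact_of_pointwise {P₁ P₂ P₃ : Pre X} (i : P₁ ⟶ P₂) (q : P₂ ⟶ P₃)
    (hz : i ≫ q = 0)
    (hi : ∀ W, Function.Injective (i.app W))
    (hq : ∀ W, Function.Surjective (q.app W))
    (hex : ∀ W (y : P₂.obj W), q.app W y = 0 → ∃ x, i.app W x = y) :
    (ShortComplex.mk i q hz).ShortExact := by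
  have : Mono i := by
    have : ∀ W, Mono (i.app W) := fun W => (AddCommGrpCat.mono_iff_injective _).2 (hi W)
    exact NatTrans.mono_of_mono_app i
  have : Epi q := by
    have : ∀ W, Epi (q.app W) := fun W => (AddCommGrpCat.epi_iff_surjective _).2 (hq W)
    exact NatTrans.epi_of_epi_app q
  refine ShortComplex.ShortExact.mk' ?_ ‹_› ‹_›
  apply exact_of_evaluation
  intro W
  rw [ShortComplex.ab_exact_iff]
  intro y hy
  exact hex W y hy

/-- the sheafification of a pointwise short exact sequence is short exact -/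
lemma shortExact_shf_of_pointwise {P₁ P₂ P₃ : Pre X} (i : P₁ ⟶ P₂) (q : P₂ ⟶ P₃)
    (hz : i ≫ q = 0)
    (hi : ∀ W, Function.Injective (i.app W))
    (hq : ∀ W, Function.Surjective (q.app W))
    (hex : ∀ W (y : P₂.obj W), q.app W y = 0 → ∃ x, i.app W x = y) :
    ((ShortComplex.mk i q hz).map (shf X)).ShortExact :=
  (shortExact_of_pointwise i q hz hi hq hex).map_of_exact (shf X)

variable {T : CohTop.Ab X} {d : ℕ}

/-- the vanishing class, on presheaves: `Ext^p(T, P^#) = 0` for `p > d` -/
def PVan (T : CohTop.Ab X) (d : ℕ) (P : Pre X) : Prop := VanAbove T d ((shf X).obj P)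

lemma pvan_iff_of_W {P Q : Pre X} (f : P ⟶ Q) (hf : (Opens.grothendieckTopology X).W f) :
    PVan T d P ↔ PVan T d Q := by
  have : IsIso ((shf X).map f) := ((Opens.grothendieckTopology X).W_iff f).1 hf
  exact ⟨vanAbove_of_iso (asIso ((shf X).map f)), vanAbove_of_iso (asIso ((shf X).map f)).symm⟩

lemma pvan_iff_of_locallyBijective {P Q : Pre X} (f : P ⟶ Q)
    [Presheaf.IsLocallyInjective (Opens.grothendieckTopology X) f]
    [Presheaf.IsLocallySurjective (Opens.grothendieckTopology X) f] :
    PVan T d P ↔ PVan T d Q :=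
  pvan_iff_of_W f ((Opens.grothendieckTopology X).W_of_isLocallyBijective f)

lemma pvan_iff_of_bijective {P Q : Pre X} (f : P ⟶ Q)
    (hinj : ∀ W, Function.Injective (f.app W)) (hsurj : ∀ W, Function.Surjective (f.app W)) :
    PVan T d P ↔ PVan T d Q := by
  have := Presheaf.isLocallyInjective_of_injective (Opens.grothendieckTopology X) f hinj
  have := Presheaf.isLocallySurjective_of_surjective (Opens.grothendieckTopology X) f hsurj
  exact pvan_iff_of_locallyBijective f

lemma pvan_X₃ {P₁ P₂ P₃ : Pre X} (i : P₁ ⟶ P₂) (q : P₂ ⟶ P₃)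
    (hz : i ≫ q = 0)
    (hi : ∀ W, Function.Injective (i.app W))
    (hq : ∀ W, Function.Surjective (q.app W))
    (hex : ∀ W (y : P₂.obj W), q.app W y = 0 → ∃ x, i.app W x = y)
    (h₁ : PVan T d P₁) (h₂ : PVan T d P₂) : PVan T d P₃ :=
  vanAbove_X₃ (shortExact_shf_of_pointwise i q hz hi hq hex) h₁ h₂

lemma pvan_X₂ {P₁ P₂ P₃ : Pre X} (i : P₁ ⟶ P₂) (q : P₂ ⟶ P₃)
    (hz : i ≫ q = 0)
    (hi : ∀ W, Function.Injective (i.app W))
    (hq : ∀ W, Function.Surjective (q.app W))
    (hex : ∀ W (y : P₂.obj W), q.app W y = 0 → ∃ x, i.app W x = y)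
    (h₁ : PVan T d P₁) (h₃ : PVan T d P₃) : PVan T d P₂ :=
  vanAbove_X₂ (shortExact_shf_of_pointwise i q hz hi hq hex) h₁ h₃

lemma pvan_of_subsingleton {P : Pre X} (h : ∀ W, Subsingleton (P.obj W)) : PVan T d P := by
  apply vanAbove_of_isZero
  apply Functor.map_isZero
  apply Functor.isZero
  intro W
  have := h W
  exact AddCommGrpCat.isZero_of_subsingleton _

/-- the (concrete) product of two presheaves -/
def prodPre (P Q : Pre X) : Pre X where
  obj W := AddCommGrpCat.of (P.obj W × Q.obj W)
  map f := AddCommGrpCat.ofHom (AddMonoidHom.prodMap (P.map f).hom (Q.map f).hom)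
  map_id W := by ext ⟨a, b⟩ <;> simp
  map_comp f g := by ext ⟨a, b⟩ <;> simp

/-- first inclusion into the product -/
def prodInl (P Q : Pre X) : P ⟶ prodPre P Q where
  app W := AddCommGrpCat.ofHom (AddMonoidHom.inl (P.obj W) (Q.obj W))
  naturality W W' f := by
    ext a
    exact Prod.ext rfl (map_zero (Q.map f).hom).symm

/-- second projection from the product -/
def prodSnd (P Q : Pre X) : prodPre P Q ⟶ Q where
  app W := AddCommGrpCat.ofHom (AddMonoidHom.snd (P.obj W) (Q.obj W))
  naturality W W' f := by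
    ext ⟨a, b⟩
    rfl

lemma pvan_prod {P Q : Pre X} (hP : PVan T d P) (hQ : PVan T d Q) : PVan T d (prodPre P Q) := by
  refine pvan_X₂ (prodInl P Q) (prodSnd P Q) ?_ ?_ ?_ ?_ hP hQ
  · ext W a
    rfl
  · intro W a b hab
    exact congrArg Prod.fst hab
  · intro W b
    exact ⟨(0, b), rfl⟩
  · intro W y hy
    obtain ⟨a, b⟩ := y
    refine ⟨a, ?_⟩
    have hb : b = 0 := hy
    subst hb
    rfl

end Groth.Agent.H86.Van
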