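import Groth.Agent.H86.Van.Pre

/-!
# Sub-presheaves of abelian presheaves on a space
-/

set_option autoImplicit false
universe u

namespace Groth.Agent.H86.Van

open CategoryTheory Abelian Limits TopologicalSpace Opposite

variable {X : TopCat.{u}}

/-- a sub-presheaf of an abelian presheaf -/
structure SubPre (F : Pre X) where
  /-- the subgroups of sections -/
  carrier : ∀ W : (Opens X)ᵒᵖ, AddSubgroup (F.obj W)
  /-- stability under restriction -/
  map_mem : ∀ {W W' : (Opens X)ᵒᵖ} (f : W ⟶ W') (s : F.obj W), s ∈ carrier W →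
    (F.map f).hom s ∈ carrier W'

namespace SubPre

variable {F : Pre X}

@[ext] lemma ext {G G' : SubPre F} (h : ∀ W, G.carrier W = G'.carrier W) : G = G' := by
  cases G; cases G'; congr; funext W; exact h W

instance : PartialOrder (SubPre F) where
  le G G' := ∀ W, G.carrier W ≤ G'.carrier W
  le_refl _ _ := le_rfl
  le_trans _ _ _ h h' W := (h W).trans (h' W)
  le_antisymm _ _ h h' := ext fun W => le_antisymm (h W) (h' W)

lemma le_def {G G' : SubPre F} : G ≤ G' ↔ ∀ W, G.carrier W ≤ G'.carrier W := Iff.rfl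

instance : Max (SubPre F) := ⟨fun G G' => ⟨fun W => G.carrier W ⊔ G'.carrier W, by
  intro W W' f s hs
  rw [AddSubgroup.mem_sup] at hs ⊢
  obtain ⟨a, ha, b, hb, rfl⟩ := hs
  exact ⟨_, G.map_mem f a ha, _, G'.map_mem f b hb, (map_add _ _ _).symm⟩⟩⟩

instance : Min (SubPre F) := ⟨fun G G' => ⟨fun W => G.carrier W ⊓ G'.carrier W,
  fun f s hs => ⟨G.map_mem f s hs.1, G'.map_mem f s hs.2⟩⟩⟩

instance : Bot (SubPre F) := ⟨⟨fun _ => ⊥, fun f s hs => by
  rw [AddSubgroup.mem_bot] at hs ⊢
  rw [hs, map_zero]⟩⟩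

@[simp] lemma sup_carrier (G G' : SubPre F) (W) : (G ⊔ G').carrier W = G.carrier W ⊔ G'.carrier W :=
  rfl

@[simp] lemma inf_carrier (G G' : SubPre F) (W) : (G ⊓ G').carrier W = G.carrier W ⊓ G'.carrier W :=
  rfl

@[simp] lemma bot_carrier (W) : (⊥ : SubPre F).carrier W = ⊥ := rfl

instance : Lattice (SubPre F) where
  sup := (· ⊔ ·)
  le_sup_left _ _ _ := le_sup_left
  le_sup_right _ _ _ := le_sup_right
  sup_le _ _ _ h h' W := sup_le (h W) (h' W)
  inf := (· ⊓ ·)
  inf_le_left _ _ _ := inf_le_left
  inf_le_right _ _ _ := inf_le_right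
  le_inf _ _ _ h h' W := le_inf (h W) (h' W)

instance : OrderBot (SubPre F) where
  bot_le _ _ := bot_le

lemma finset_sup_carrier {α : Type*} (T : Finset α) (f : α → SubPre F) (W) :
    (T.sup f).carrier W = T.sup (fun t => (f t).carrier W) := by
  classical
  induction T using Finset.induction_on with
  | empty => simp
  | insert a T _ ih => simp [Finset.sup_insert, ih]

/-- the presheaf underlying a sub-presheaf -/
def toPre (G : SubPre F) : Pre X where
  obj W := AddCommGrpCat.of (G.carrier W)
  map {W W'} f := AddCommGrpCat.ofHom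
    (((F.map f).hom.comp (G.carrier W).subtype).codRestrict (G.carrier W')
      (fun s => G.map_mem f s.1 s.2))
  map_id W := by
    ext s
    simp
  map_comp f g := by
    ext s
    simp

/-- the inclusion of a sub-presheaf -/
def ι (G : SubPre F) : G.toPre ⟶ F where
  app W := AddCommGrpCat.ofHom (G.carrier W).subtype
  naturality _ _ _ := by
    ext s
    rfl

lemma ι_injective (G : SubPre F) (W) : Function.Injective (G.ι.app W) :=
  fun _ _ h => Subtype.ext h

@[simp] lemma ι_app_apply (G : SubPre F) (W) (s : G.toPre.obj W) :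
    G.ι.app W s = (s : G.carrier W).1 := rfl

/-- inclusions between sub-presheaves -/
def homOfLE {G G' : SubPre F} (h : G ≤ G') : G.toPre ⟶ G'.toPre where
  app W := AddCommGrpCat.ofHom (AddSubgroup.inclusion (h W))
  naturality _ _ _ := by
    ext s
    rfl

@[simp] lemma homOfLE_ι {G G' : SubPre F} (h : G ≤ G') : homOfLE h ≫ G'.ι = G.ι := by
  ext W s
  rfl

lemma homOfLE_injective {G G' : SubPre F} (h : G ≤ G') (W) :
    Function.Injective ((homOfLE h).app W) :=
  fun _ _ e => Subtype.ext (congrArg (fun z : G'.carrier W => z.1) e)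

/-- the functor from the preorder of sub-presheaves to presheaves -/
def functor (F : Pre X) : SubPre F ⥤ Pre X where
  obj G := G.toPre
  map f := homOfLE (leOfHom f)
  map_id _ := by
    ext W s
    rfl
  map_comp _ _ := by
    ext W s
    rfl

/-- the image of a morphism of presheaves -/
def range {E : Pre X} (φ : E ⟶ F) : SubPre F where
  carrier W := (φ.app W).hom.range
  map_mem {W W'} f s hs := by
    obtain ⟨e, rfl⟩ := hs
    refine ⟨(E.map f).hom e, ?_⟩
    exact congrArg (fun k => k.hom e) (φ.naturality f)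

/-- the corestriction of a morphism to its image -/
def toRange {E : Pre X} (φ : E ⟶ F) : E ⟶ (range φ).toPre where
  app W := AddCommGrpCat.ofHom ((φ.app W).hom.rangeRestrict)
  naturality W W' f := by
    ext e
    apply Subtype.ext
    exact congrArg (fun k => k.hom e) (φ.naturality f)

lemma toRange_surjective {E : Pre X} (φ : E ⟶ F) (W) : Function.Surjective ((toRange φ).app W) :=
  (φ.app W).hom.rangeRestrict_surjective

lemma toRange_injective {E : Pre X} (φ : E ⟶ F) (hφ : ∀ W, Function.Injective (φ.app W)) (W) :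
    Function.Injective ((toRange φ).app W) := by
  intro a b h
  exact hφ W (congrArg (fun z : (range φ).carrier W => z.1) h)

lemma range_ι (G : SubPre F) : range G.ι = G := by
  apply SubPre.ext
  intro W
  exact (G.carrier W).range_subtype

/-- the preimage of a sub-presheaf -/
def comap {E : Pre X} (φ : E ⟶ F) (G : SubPre F) : SubPre E where
  carrier W := (G.carrier W).comap (φ.app W).hom
  map_mem {W W'} f s hs := by
    change (φ.app W').hom ((E.map f).hom s) ∈ G.carrier W'
    have h1 : (φ.app W').hom ((E.map f).hom s) = (F.map f).hom ((φ.app W).hom s) :=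
      congrArg (fun k => k.hom s) (φ.naturality f)
    rw [h1]
    exact G.map_mem f _ hs

lemma pvan_range_iff {T : CohTop.Ab X} {d : ℕ} {E : Pre X} (φ : E ⟶ F)
    (hφ : ∀ W, Function.Injective (φ.app W)) :
    PVan T d E ↔ PVan T d (range φ).toPre :=
  pvan_iff_of_bijective (toRange φ) (toRange_injective φ hφ) (toRange_surjective φ)

lemma range_comap_ι (G' G : SubPre F) : range ((comap G'.ι G).ι ≫ G'.ι) = G' ⊓ G := by
  apply SubPre.ext
  intro W
  ext x
  constructor
  · rintro ⟨e, rfl⟩
    exact ⟨e.1.2, e.2⟩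
  · rintro ⟨h1, h2⟩
    exact ⟨⟨⟨x, h1⟩, h2⟩, rfl⟩

lemma pvan_comap_ι_iff {T : CohTop.Ab X} {d : ℕ} (G' G : SubPre F) :
    PVan T d (comap G'.ι G).toPre ↔ PVan T d (G' ⊓ G).toPre := by
  rw [← range_comap_ι]
  apply pvan_range_iff
  intro W a b h
  exact (comap G'.ι G).ι_injective W (G'.ι_injective W h)

section pushout

variable {E : Pre X} (φ : E ⟶ F) (G : SubPre F)

/-- the map `φ⁻¹(G) → E × G`, `e ↦ (e, -φ e)` -/
def pushI : (comap φ G).toPre ⟶ prodPre E G.toPre where
  app W := AddCommGrpCat.ofHom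
    { toFun := fun e => (e.1, -⟨(φ.app W).hom e.1, e.2⟩)
      map_zero' := by
        refine Prod.ext rfl (Subtype.ext ?_)
        change -((φ.app W).hom (0 : E.obj W)) = 0
        rw [map_zero, neg_zero]
      map_add' := fun a b => by
        refine Prod.ext rfl (Subtype.ext ?_)
        change -((φ.app W).hom (a.1 + b.1)) = -((φ.app W).hom a.1) + -((φ.app W).hom b.1)
        rw [map_add, neg_add] }
  naturality W W' f := by
    ext e
    refine Prod.ext rfl (Subtype.ext ?_)
    change -((φ.app W').hom ((E.map f).hom e.1)) = (F.map f).hom (-((φ.app W).hom e.1))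
    rw [map_neg]
    exact congrArg Neg.neg (congrArg (fun k => k.hom e.1) (φ.naturality f))

/-- the map `E × G → G + im φ`, `(e, g) ↦ φ e + g` -/
def pushQ : prodPre E G.toPre ⟶ (G ⊔ range φ).toPre where
  app W := AddCommGrpCat.ofHom
    { toFun := fun p => ⟨(φ.app W).hom p.1 + p.2.1,
        AddSubgroup.mem_sup.2 ⟨p.2.1, p.2.2, (φ.app W).hom p.1, ⟨p.1, rfl⟩, add_comm _ _⟩⟩
      map_zero' := by
        apply Subtype.ext
        change (φ.app W).hom (0 : E.obj W) + 0 = 0
        rw [map_zero, add_zero]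
      map_add' := fun a b => by
        apply Subtype.ext
        change (φ.app W).hom (a.1 + b.1) + (a.2.1 + b.2.1) =
          ((φ.app W).hom a.1 + a.2.1) + ((φ.app W).hom b.1 + b.2.1)
        rw [map_add]
        abel }
  naturality W W' f := by
    ext p
    apply Subtype.ext
    change (φ.app W').hom ((E.map f).hom p.1) + (F.map f).hom p.2.1 =
      (F.map f).hom ((φ.app W).hom p.1 + p.2.1)
    rw [map_add]
    exact congrArg (· + _) (congrArg (fun k => k.hom p.1) (φ.naturality f))

lemma pvan_sup_range {T : CohTop.Ab X} {d : ℕ} (hE : PVan T d E) (hG : PVan T d G.toPre)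
    (hK : PVan T d (comap φ G).toPre) : PVan T d (G ⊔ range φ).toPre := by
  refine pvan_X₃ (pushI φ G) (pushQ φ G) ?_ ?_ ?_ ?_ hK (pvan_prod hE hG)
  · ext W e
    refine Subtype.ext ?_
    change (φ.app W).hom e.1 + (-(φ.app W).hom e.1) = 0
    exact add_neg_cancel _
  · intro W a b h
    exact Subtype.ext (congrArg Prod.fst h)
  · intro W x
    obtain ⟨y, hy, z, ⟨e, rfl⟩, hyz⟩ := AddSubgroup.mem_sup.1 x.2
    refine ⟨(e, ⟨y, hy⟩), Subtype.ext ?_⟩
    change (φ.app W).hom e + y = x.1
    rw [add_comm]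
    exact hyz
  · intro W p hp
    obtain ⟨e, g⟩ := p
    have h0 : (φ.app W).hom e + g.1 = 0 := congrArg Subtype.val hp
    have h1 : (φ.app W).hom e = -g.1 := eq_neg_of_add_eq_zero_left h0
    have he : (φ.app W).hom e ∈ G.carrier W := by
      rw [h1]
      exact neg_mem g.2
    refine ⟨⟨e, he⟩, Prod.ext rfl (Subtype.ext ?_)⟩
    change -(φ.app W).hom e = g.1
    rw [h1, neg_neg]

end pushout

end SubPre

end Groth.Agent.H86.Van
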